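import Groth.Prelude.Def_W4stktopologysheavesBas
import Mathlib.Topology.Sheaves.SheafCondition.UniqueGluing
import Mathlib.Topology.Sheaves.SheafCondition.Sites

/-! Sheaves on a basis. -/

universe u
open TopologicalSpace Opposite CategoryTheory

namespace Groth.Agent.ShBH28

variable {X : Type u} [TopologicalSpace X] {B : Set (Opens X)}

/-- Sections are determined by their restrictions to the members of a covering. -/
def Separated (F : ShB.Pre B) : Prop :=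
  ∀ (U : B) (ι : Type u) (V : ι → B) (hle : ∀ i, (V i : Opens X) ≤ (U : Opens X)),
    (U : Opens X) ≤ ⨆ i, (V i : Opens X) → ∀ t t' : F.obj U, (∀ i, F.res (hle i) t = F.res (hle i) t') → t = t'

theorem exists_member (hB : Opens.IsBasis B) {O : Opens X} {x : X} (hx : x ∈ O) :
    ∃ W : B, x ∈ (W : Opens X) ∧ (W : Opens X) ≤ O := by
  obtain ⟨W, hW, hxW, hle⟩ := Opens.isBasis_iff_nbhd.1 hB hx
  exact ⟨⟨W, hW⟩, hxW, hle⟩

theorem sep_point {F : ShB.Pre B} (hsep : Separated F) (U : B) (t t' : F.obj U)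
    (h : ∀ x ∈ (U : Opens X), ∃ (W : B) (hW : (W : Opens X) ≤ (U : Opens X)), x ∈ (W : Opens X) ∧
      F.res hW t = F.res hW t') : t = t' := by
  choose W hle hx he using h
  exact hsep U (U : Opens X) (fun x => W x.1 x.2) (fun x => hle x.1 x.2)
    (fun x hxU => Opens.mem_iSup.2 ⟨⟨x, hxU⟩, hx x hxU⟩) t t' fun x => he x.1 x.2

theorem sep_of_unique {F : ShB.Pre B} (C : ∀ U : B, Set (ShB.Cover B)) (hCU : ∀ U, ∀ c ∈ C U, c.U = U)
    (hC : ∀ (U : B) (ι : Type u) (V : ι → B), (∀ i, (V i : Opens X) ≤ (U : Opens X)) →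
      (U : Opens X) ≤ ⨆ i, (V i : Opens X) →
      ∃ c ∈ C U, ∀ i' : c.ι, ∃ i, (c.V i' : Opens X) ≤ (V i : Opens X))
    (h : ∀ U, ∀ c ∈ C U, ∀ t t' : F.obj c.U, (∀ i, F.res (c.V_le i) t = F.res (c.V_le i) t') → t = t') :
    Separated F := by
  intro U ι V hle hcov t t' ht
  obtain ⟨c, hc, hr⟩ := hC U ι V hle hcov
  have hU := hCU U c hc
  subst hU
  refine h _ c hc t t' fun i' => ?_
  obtain ⟨i, hi⟩ := hr i'
  rw [← F.res_comp (hle i) hi, ← F.res_comp (hle i) hi, ht]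

theorem separated_of_isSheaf (hB : Opens.IsBasis B) {F : ShB.Pre B} (hF : ShB.IsSheaf F) : Separated F := by
  intro U ι V hle hcov t t' ht
  let c : ShB.Cover B :=
    { U := U, ι := ι, V := V, V_le := hle, V_cover := hcov
      κ := fun i j => {M : B // (M : Opens X) ≤ (V i : Opens X) ⊓ (V j : Opens X)}
      W := fun _ _ M => M.1
      W_le_left := fun _ _ M => M.2.trans inf_le_left
      W_le_right := fun _ _ M => M.2.trans inf_le_right
      W_cover := fun i j x hx => by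
        obtain ⟨W, hxW, hW⟩ := exists_member hB hx
        exact Opens.mem_iSup.2 ⟨⟨W, hW⟩, hxW⟩ }
  exact (hF c (fun i => F.res (hle i) t) fun i j k => by rw [F.res_comp, F.res_comp]).unique
    (fun i => rfl) (fun i => (ht i).symm)

theorem agree (hB : Opens.IsBasis B) {F : ShB.Pre B} (hsep : Separated F) (c : ShB.Cover B) (s : ∀ i, F.obj (c.V i))
    (hs : ∀ i j k, F.res (c.W_le_left i j k) (s i) = F.res (c.W_le_right i j k) (s j))
    (i j : c.ι) (M : B) (hi : (M : Opens X) ≤ (c.V i : Opens X)) (hj : (M : Opens X) ≤ (c.V j : Opens X)) :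
    F.res hi (s i) = F.res hj (s j) := by
  refine sep_point hsep M _ _ fun x hx => ?_
  obtain ⟨k, hk⟩ := Opens.mem_iSup.1 (c.W_cover i j ⟨hi hx, hj hx⟩)
  obtain ⟨W, hxW, hW⟩ := exists_member hB (O := (M : Opens X) ⊓ (c.W i j k : Opens X)) ⟨hx, hk⟩
  refine ⟨W, hW.trans inf_le_left, hxW, ?_⟩
  rw [F.res_comp, F.res_comp, ← F.res_comp (c.W_le_left i j k) (hW.trans inf_le_right), hs, F.res_comp]

theorem isSheaf_of_cofinal (hB : Opens.IsBasis B) {F : ShB.Pre B}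
    (C : ∀ U : B, Set (ShB.Cover B)) (hCU : ∀ U, ∀ c ∈ C U, c.U = U)
    (hC : ∀ (U : B) (ι : Type u) (V : ι → B), (∀ i, (V i : Opens X) ≤ (U : Opens X)) →
      (U : Opens X) ≤ ⨆ i, (V i : Opens X) →
      ∃ c ∈ C U, ∀ i' : c.ι, ∃ i, (c.V i' : Opens X) ≤ (V i : Opens X))
    (h : ∀ U, ∀ c ∈ C U, ShB.GluesUniquely F c) : ShB.IsSheaf F := by
  have hsep : Separated F := sep_of_unique C hCU hC fun U c hc t t' ht =>
    (h U c hc (fun i => F.res (c.V_le i) t) fun i j k => by rw [F.res_comp, F.res_comp]).unique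
      (fun i => rfl) (fun i => (ht i).symm)
  intro c₀ s hs
  obtain ⟨c, hc, hr⟩ := hC c₀.U c₀.ι c₀.V c₀.V_le c₀.V_cover
  choose r hr using hr
  have hU := hCU c₀.U c hc
  have hag := agree hB hsep c₀ s hs
  obtain ⟨U₀, ι₀, V₀, hle₀, hcov₀, κ₀, W₀, hl₀, hr₀, hW₀⟩ := c₀
  subst hU
  obtain ⟨t, ht, -⟩ := h _ c hc (fun i' => F.res (hr i') (s (r i'))) fun a b k => by
    rw [F.res_comp, F.res_comp]; exact hag _ _ _ _ _
  refine ⟨t, fun i => sep_point hsep _ _ _ fun x hx => ?_, fun t' ht' => hsep _ _ V₀ hle₀ hcov₀ _ _ fun i => ?_⟩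
  · obtain ⟨i', hi'⟩ := Opens.mem_iSup.1 (c.V_cover (hle₀ i hx))
    obtain ⟨W, hxW, hW⟩ := exists_member hB (O := (V₀ i : Opens X) ⊓ (c.V i' : Opens X)) ⟨hx, hi'⟩
    refine ⟨W, hW.trans inf_le_left, hxW, ?_⟩
    rw [F.res_comp, ← F.res_comp (c.V_le i') (hW.trans inf_le_right), ht, F.res_comp]
    exact hag _ _ _ _ _
  · rw [ht' i]
    refine (sep_point hsep _ _ _ fun x hx => ?_).symm
    obtain ⟨i', hi'⟩ := Opens.mem_iSup.1 (c.V_cover (hle₀ i hx))
    obtain ⟨W, hxW, hW⟩ := exists_member hB (O := (V₀ i : Opens X) ⊓ (c.V i' : Opens X)) ⟨hx, hi'⟩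
    refine ⟨W, hW.trans inf_le_left, hxW, ?_⟩
    rw [F.res_comp, ← F.res_comp (c.V_le i') (hW.trans inf_le_right), ht, F.res_comp]
    exact hag _ _ _ _ _

variable {F : ShB.Pre B}

theorem stalkRel_equivalence (hB : Opens.IsBasis B) (x : X) : Equivalence (ShB.StalkRel F x) where
  refl a := ⟨a.1.1, a.1.2, le_rfl, le_rfl, rfl⟩
  symm := fun ⟨W, hx, ha, hb, e⟩ => ⟨W, hx, hb, ha, e.symm⟩
  trans := fun ⟨W, hx, ha, hb, e⟩ ⟨W', hx', hb', hc, e'⟩ => by
    obtain ⟨M, hxM, hM⟩ := exists_member hB (O := (W : Opens X) ⊓ (W' : Opens X)) ⟨hx, hx'⟩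
    refine ⟨M, hxM, (hM.trans inf_le_left).trans ha, (hM.trans inf_le_right).trans hc, ?_⟩
    rw [← F.res_comp ha (hM.trans inf_le_left), e, F.res_comp, ← F.res_comp hc (hM.trans inf_le_right), ← e',
      F.res_comp]

theorem germ_eq_iff (hB : Opens.IsBasis B) {U U' : B} (x : X) (hx : x ∈ (U : Opens X)) (hx' : x ∈ (U' : Opens X))
    (s : F.obj U) (s' : F.obj U') :
    ShB.germ F x hx s = ShB.germ F x hx' s' ↔
      ∃ (W : B) (_ : x ∈ (W : Opens X)) (ha : (W : Opens X) ≤ (U : Opens X)) (hb : (W : Opens X) ≤ (U' : Opens X)),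
        F.res ha s = F.res hb s' :=
  ⟨fun h => (stalkRel_equivalence hB x).eqvGen_iff.1 (Quot.eqvGen_exact h), fun h => Quot.sound h⟩

theorem germ_res (hB : Opens.IsBasis B) {U V : B} (h : (V : Opens X) ≤ (U : Opens X)) (x : X)
    (hx : x ∈ (V : Opens X)) (s : F.obj U) : ShB.germ F x hx (F.res h s) = ShB.germ F x (h hx) s :=
  (germ_eq_iff hB x _ _ _ _).2 ⟨V, hx, le_rfl, h, by rw [F.res_comp]⟩

theorem eq_of_germ (hB : Opens.IsBasis B) (hsep : Separated F) (U : B) (s t : F.obj U)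
    (h : ∀ x (hx : x ∈ (U : Opens X)), ShB.germ F x hx s = ShB.germ F x hx t) : s = t :=
  sep_point hsep U s t fun x hx => by
    obtain ⟨W, hxW, ha, hb, e⟩ := (germ_eq_iff hB x _ _ _ _).1 (h x hx)
    exact ⟨W, ha, hxW, e⟩

/-- Members below an open. -/
abbrev Below (B : Set (Opens X)) (U : Opens X) : Type u := {W : B // (W : Opens X) ≤ U}

/-- Compatible families over the members below an open. -/
@[ext]
structure Fam (F : ShB.Pre B) (U : Opens X) : Type u where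
  val : ∀ W : Below B U, F.obj W.1
  compat : ∀ (W W' : Below B U) (h : (W'.1 : Opens X) ≤ (W.1 : Opens X)), F.res h (val W) = val W'

/-- The presheaf of compatible families. -/
def extPre (F : ShB.Pre B) : TopCat.Presheaf (Type u) (TopCat.of X) where
  obj U := Fam F U.unop
  map {U V} f := ↾fun s => ⟨fun W => s.val ⟨W.1, W.2.trans f.unop.le⟩, fun W W' h => s.compat ⟨W.1, W.2.trans f.unop.le⟩ ⟨W'.1, W'.2.trans f.unop.le⟩ h⟩
  map_id U := by ext s; rfl
  map_comp f g := by ext s; rfl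

theorem extPre_isSheaf (hB : Opens.IsBasis B) (hF : ShB.IsSheaf F) : (extPre F).IsSheaf := by
  rw [TopCat.Presheaf.isSheaf_iff_isSheafUniqueGluing_types]
  intro ι U (sf : ∀ i, Fam F (U i)) hsf
  have hsep := separated_of_isSheaf hB hF
  have hval : ∀ (i j : ι) (M : B) (hi : (M : Opens X) ≤ U i) (hj : (M : Opens X) ≤ U j),
      (sf i).val ⟨M, hi⟩ = (sf j).val ⟨M, hj⟩ := fun i j M hi hj =>
    congrArg (fun t : Fam F (U i ⊓ U j) => t.val ⟨M, le_inf hi hj⟩) (hsf i j)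
  let c : Below B (iSup U) → ShB.Cover B := fun W =>
    { U := W.1
      ι := {p : B × ι // (p.1 : Opens X) ≤ (W.1 : Opens X) ∧ (p.1 : Opens X) ≤ U p.2}
      V := fun p => p.1.1
      V_le := fun p => p.2.1
      V_cover := fun x hx => by
        obtain ⟨i, hi⟩ := Opens.mem_iSup.1 (W.2 hx)
        obtain ⟨M, hxM, hM⟩ := exists_member hB (O := (W.1 : Opens X) ⊓ U i) ⟨hx, hi⟩
        exact Opens.mem_iSup.2 ⟨⟨(M, i), hM.trans inf_le_left, hM.trans inf_le_right⟩, hxM⟩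
      κ := fun p q => {M : B // (M : Opens X) ≤ (p.1.1 : Opens X) ⊓ (q.1.1 : Opens X)}
      W := fun _ _ M => M.1
      W_le_left := fun _ _ M => M.2.trans inf_le_left
      W_le_right := fun _ _ M => M.2.trans inf_le_right
      W_cover := fun p q x hx => by
        obtain ⟨M, hxM, hM⟩ := exists_member hB hx
        exact Opens.mem_iSup.2 ⟨⟨M, hM⟩, hxM⟩ }
  have hglue : ∀ W : Below B (iSup U), ∃ t : F.obj W.1, ∀ (M : B) (i : ι) (h1 : (M : Opens X) ≤ (W.1 : Opens X))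
      (h2 : (M : Opens X) ≤ U i), F.res h1 t = (sf i).val ⟨M, h2⟩ := by
    intro W
    obtain ⟨t, ht, -⟩ := hF (c W) (fun p => (sf p.1.2).val ⟨p.1.1, p.2.2⟩) fun p q k => by
      rw [(sf p.1.2).compat ⟨p.1.1, p.2.2⟩ ⟨k.1, (k.2.trans inf_le_left).trans p.2.2⟩,
        (sf q.1.2).compat ⟨q.1.1, q.2.2⟩ ⟨k.1, (k.2.trans inf_le_right).trans q.2.2⟩]
      exact hval _ _ _ _ _
    exact ⟨t, fun M i h1 h2 => ht ⟨(M, i), h1, h2⟩⟩
  choose t ht using hglue
  have hpt : ∀ (W : Below B (iSup U)) (x : X), x ∈ (W.1 : Opens X) →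
      ∃ (M : B) (i : ι), x ∈ (M : Opens X) ∧ (M : Opens X) ≤ (W.1 : Opens X) ∧ (M : Opens X) ≤ U i := by
    intro W x hx
    obtain ⟨i, hi⟩ := Opens.mem_iSup.1 (W.2 hx)
    obtain ⟨M, hxM, hM⟩ := exists_member hB (O := (W.1 : Opens X) ⊓ U i) ⟨hx, hi⟩
    exact ⟨M, i, hxM, hM.trans inf_le_left, hM.trans inf_le_right⟩
  refine ⟨⟨t, fun W W' h => sep_point hsep _ _ _ fun x hx => ?_⟩, fun i => Fam.ext (funext fun W => ?_),
    fun s hs => Fam.ext (funext fun W => sep_point hsep _ _ _ fun x hx => ?_)⟩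
  · obtain ⟨M, i, hxM, h1, h2⟩ := hpt W' x hx
    refine ⟨M, h1, hxM, ?_⟩
    rw [F.res_comp, ht _ M i _ h2, ht _ M i _ h2]
  · show t ⟨W.1, W.2.trans (le_iSup U i)⟩ = (sf i).val W
    rw [← F.res_id W.1 (t ⟨W.1, W.2.trans (le_iSup U i)⟩)]
    exact ht _ W.1 i le_rfl W.2
  · obtain ⟨M, i, hxM, h1, h2⟩ := hpt W x hx
    refine ⟨M, h1, hxM, ?_⟩
    rw [ht _ M i _ h2, s.compat W ⟨M, h1.trans W.2⟩ h1]
    exact congrArg (fun z : Fam F (U i) => z.val ⟨M, h2⟩) (hs i)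

/-- The extension restricts to the given presheaf. -/
def extIso (F : ShB.Pre B) : ShB.Iso (ShB.restrict B (extPre F)) F where
  hom := { app := fun U (s : Fam F (U : Opens X)) => s.val ⟨U, le_rfl⟩
           natural := fun {U V} h (s : Fam F (U : Opens X)) => s.compat ⟨U, le_rfl⟩ ⟨V, h⟩ h }
  inv := { app := fun U s => (⟨fun W => F.res W.2 s, fun W W' h => F.res_comp _ _ _⟩ : Fam F (U : Opens X))
           natural := fun {U V} h s => Fam.ext (funext fun W => (F.res_comp _ _ _).symm) }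
  hom_inv U (s : Fam F (U : Opens X)) := Fam.ext (funext fun W => s.compat ⟨U, le_rfl⟩ W W.2)
  inv_hom U t := F.res_id U t

end Groth.Agent.ShBH28
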